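import Groth.Prelude.Def_CurvBase
import Groth.Agent.QCohLib.StalkLoc
import Groth.Agent.MeroBasic.Reg

/-! Weakly associated points of quasi-coherent modules. -/

namespace Groth.Agent.AssPoints

open AlgebraicGeometry CategoryTheory TopologicalSpace
open MeroBasic (pr isUnit_germ_iff exists_germ_mul_eq fromSpec_mem primeIdealOf_fromSpec specializes_of_le)

universe u

variable {X : Scheme.{u}} {F : X.Modules}

lemma isWeakAssPoint_iff_isAssPoint {x : X} : Curv2.IsWeakAssPoint F x ↔ Curv2.IsAssPoint F x := by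
  have h : ∀ m : F.presheaf.stalk x,
      LinearMap.ker (LinearMap.toSpanSingleton (X.presheaf.stalk x) (F.presheaf.stalk x) m) =
        (⊥ : Submodule (X.presheaf.stalk x) (F.presheaf.stalk x)).colon {m} := fun m ↦ by
    ext r; simp [Submodule.mem_colon_singleton]
  exact ⟨fun ⟨m, hm⟩ ↦ ⟨inferInstance, m, by rw [← h, hm]⟩, fun ⟨_, m, hm⟩ ↦ ⟨m, by rw [h, ← hm]⟩⟩

/-- A section with nonzero germ at `x` has nonzero germ at a weakly associated generization of `x`. -/
theorem exists_isWeakAssPoint_of_germ_ne_zero (hF : F.IsQuasicoherent) {W : X.Opens} {x : X} (hxW : x ∈ W)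
    (a : Γ(F, W)) (hne : F.presheaf.germ W x hxW a ≠ 0) :
    ∃ (x' : X) (h : x' ⤳ x), Curv2.IsWeakAssPoint F x' ∧
      F.presheaf.germ W x' (h.mem_open W.isOpen hxW) a ≠ 0 := by
  obtain ⟨_, ⟨U, hU, rfl⟩, hxU, hUW⟩ := X.isBasis_affineOpens.exists_subset_of_mem_open hxW W.isOpen
  replace hUW : U ≤ W := hUW
  let a' : Γ(F, U) := F.presheaf.map (homOfLE hUW).op a
  have hzero : ∀ (y : X) (hy : y ∈ U),
      F.presheaf.germ U y hy a' = 0 ↔ ∃ r ∉ pr hU y hy, r • a' = 0 := fun y hy ↦ by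
    rw [Groth.Agent.QCohLib.germ_eq_zero_iff hU y hy]
    simp only [Groth.Agent.QCohLib.mem_basicOpen_iff_notMem_primeIdealOf hU hy]
  have hne' : F.presheaf.germ U x hxU a' ≠ 0 := by rwa [TopCat.Presheaf.germ_res_apply]
  let I : Ideal Γ(X, U) := LinearMap.ker (LinearMap.toSpanSingleton Γ(X, U) Γ(F, U) a')
  have hI : I ≤ pr hU x hxU := fun r hr ↦ by
    by_contra hr'
    exact hne' ((hzero x hxU).mpr ⟨r, hr', hr⟩)
  obtain ⟨q, hq, hqx⟩ := Ideal.exists_minimalPrimes_le hI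
  let qq : PrimeSpectrum Γ(X, U) := ⟨q, hq.isPrime⟩
  have hsp : hU.fromSpec qq ⤳ x := specializes_of_le hU qq hqx
  have hmem := fromSpec_mem hU qq
  have hpr : pr hU _ hmem = q := congrArg PrimeSpectrum.asIdeal (primeIdealOf_fromSpec hU qq)
  have hne0 : F.presheaf.germ U _ hmem a' ≠ 0 := fun h0 ↦ by
    obtain ⟨r, hr, hr0⟩ := (hzero _ hmem).mp h0
    exact hr (hpr.symm ▸ hq.le (show r ∈ I from hr0))
  refine ⟨_, hsp, ⟨F.presheaf.germ U _ hmem a', ?_⟩, ?_⟩
  · apply le_antisymm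
    · refine IsLocalRing.le_maximalIdeal fun htop ↦ ?_
      rw [Ideal.radical_eq_top, Ideal.eq_top_iff_one] at htop
      exact hne0 ((one_smul (X.presheaf.stalk (hU.fromSpec qq)) _).symm.trans htop)
    · rw [Ideal.radical_eq_sInf]
      refine le_sInf fun Q ⟨hQ, hQp⟩ ↦ ?_
      intro y hy
      obtain ⟨r, w, hw, hrw⟩ := exists_germ_mul_eq hU (hx := hmem) y
      let Q' : Ideal Γ(X, U) := Q.comap (X.presheaf.germ U _ hmem).hom
      have hQ' : Q'.IsPrime := Ideal.IsPrime.comap _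
      have hle : Q' ≤ q := by
        intro e he
        by_contra heq
        exact hQp.ne_top (Q.eq_top_of_isUnit_mem he ((isUnit_germ_iff hU e).mpr (hpr.symm ▸ heq)))
      have hIQ : I ≤ Q' := fun e he ↦ hQ (by
        show X.presheaf.germ U _ hmem e • F.presheaf.germ U _ hmem a' = 0
        rw [← Groth.Agent.QCohLib.germ_smul, show e • a' = 0 from he, map_zero])
      have hQq : q ≤ Q' := hq.2 ⟨hQ', hIQ⟩ hle
      have hr : X.presheaf.germ U _ hmem r ∈ Q := hQq (hpr ▸ by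
        by_contra hr
        have := (isUnit_germ_iff hU r).mpr hr
        rw [← hrw, IsUnit.mul_iff] at this
        exact hy this.1)
      rw [← hrw] at hr
      exact (hQp.mem_or_mem hr).resolve_right fun h ↦ hQp.ne_top
        (Q.eq_top_of_isUnit_mem h ((isUnit_germ_iff hU w).mpr hw))
  · rwa [TopCat.Presheaf.germ_res_apply] at hne0

theorem eq_zero_of_germ_weakAss (hF : F.IsQuasicoherent) {W : X.Opens} (a : Γ(F, W))
    (h : ∀ (η : X) (hη : η ∈ W), Curv2.IsWeakAssPoint F η → F.presheaf.germ W η hη a = 0) : a = 0 := by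
  refine Groth.Agent.QCohLib.section_ext _ _ fun x hx ↦ ?_
  rw [map_zero]
  by_contra hne
  obtain ⟨x', hsp, hw, h'⟩ := exists_isWeakAssPoint_of_germ_ne_zero hF hx a hne
  exact h' (h x' _ hw)

theorem restrict_injective (hF : F.IsQuasicoherent) {U V : X.Opens} (hUV : U ≤ V)
    (hU : ∀ x ∈ V, Curv2.IsWeakAssPoint F x → x ∈ U) :
    Function.Injective (F.presheaf.map (homOfLE hUV).op) := by
  rw [injective_iff_map_eq_zero]
  intro a ha
  refine eq_zero_of_germ_weakAss hF a fun η hη hw ↦ ?_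
  have := congrArg (F.presheaf.germ U η (hU η hη hw)) ha
  rwa [TopCat.Presheaf.germ_res_apply, map_zero] at this

theorem not_isWeakAssPoint_of_subsingleton {x : X} [Subsingleton (F.presheaf.stalk x)] :
    ¬ Curv2.IsWeakAssPoint F x := fun ⟨m, hm⟩ ↦ by
  apply (IsLocalRing.maximalIdeal.isMaximal (X.presheaf.stalk x)).ne_top
  rw [← hm, Ideal.radical_eq_top, LinearMap.ker_eq_top]
  ext; exact Subsingleton.elim _ _

theorem isWeakAssPoint_of_maximal_support (hF : F.IsQuasicoherent) {x : X} (hx : x ∈ CohB1.support F)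
    (hmax : ∀ y : X, y ∈ CohB1.support F → y ⤳ x → y = x) : Curv2.IsWeakAssPoint F x := by
  obtain ⟨m, m', hne⟩ : ∃ m m' : F.presheaf.stalk x, m ≠ m' := by
    by_contra! h
    exact hx ⟨h⟩
  obtain ⟨W, hxW, a, ha⟩ := F.presheaf.exists_germ_eq (m - m')
  obtain ⟨x', hsp, hw, hne'⟩ := exists_isWeakAssPoint_of_germ_ne_zero hF hxW a
    (ha ▸ sub_ne_zero.mpr hne)
  have := hmax x' (fun _ ↦ hne' (Subsingleton.elim _ _)) hsp
  exact this ▸ hw

theorem isZero_iff (hF : F.IsQuasicoherent) :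
    Limits.IsZero F ↔ ∀ x : X, ¬ Curv2.IsWeakAssPoint F x := by
  refine ⟨fun h x ↦ ?_, fun h ↦ ?_⟩
  · have : Subsingleton (F.presheaf.stalk x) := ⟨fun a b ↦ by
      have h0 : ∀ m : F.presheaf.stalk x, m = 0 := fun m ↦ by
        rw [← Groth.Agent.QCohLib.stalkHom_id (M := F) x m, h.eq_of_src (𝟙 F) 0,
          Groth.Agent.QCohLib.stalkHom_zero]
      rw [h0 a, h0 b]⟩
    exact not_isWeakAssPoint_of_subsingleton
  · rw [Limits.IsZero.iff_id_eq_zero]
    refine Scheme.Modules.hom_ext _ _ fun U ↦ ?_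
    ext a
    exact eq_zero_of_germ_weakAss hF a fun η _ hw ↦ (h η hw).elim

theorem isWeakAssPoint_of_injective {G : X.Modules} (φ : F ⟶ G) (x : X)
    (hφ : Function.Injective (Groth.Agent.QCohLib.stalkLinearMap φ x))
    (h : Curv2.IsWeakAssPoint F x) : Curv2.IsWeakAssPoint G x := by
  obtain ⟨m, hm⟩ := h
  refine ⟨Groth.Agent.QCohLib.stalkLinearMap φ x m, hm ▸ congrArg Ideal.radical ?_⟩
  ext r
  simp only [LinearMap.mem_ker, LinearMap.toSpanSingleton_apply, ← map_smul]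
  exact (map_eq_zero_iff _ hφ)

theorem isWeakAssPoint_middle {S : ShortComplex X.Modules} (hS : S.ShortExact) (x : X)
    (h : Curv2.IsWeakAssPoint S.X₂ x) : Curv2.IsWeakAssPoint S.X₁ x ∨ Curv2.IsWeakAssPoint S.X₃ x := by
  obtain ⟨m, hm⟩ := h
  have hf : Function.Injective (Groth.Agent.QCohLib.stalkLinearMap S.f x) :=
    fun a b hab ↦ (Groth.Agent.QCohLib.mono_iff_stalk_injective S.f).mp hS.mono_f x hab
  by_cases hn : Groth.Agent.QCohLib.stalkLinearMap S.g x m = 0
  · left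
    obtain ⟨W, hxW, a, rfl⟩ := S.X₂.presheaf.exists_germ_eq m
    rw [Groth.Agent.QCohLib.stalkLinearMap_apply, Groth.Agent.QCohLib.stalkHom_germ] at hn
    obtain ⟨Z, hxZ, i, j, e⟩ := S.X₃.presheaf.germ_eq x hxW hxW (S.g.app W a) 0 (by rw [hn, map_zero])
    rw [map_zero] at e
    have hgZ : S.g.app Z (S.X₂.presheaf.map i.op a) = 0 := by
      refine Eq.trans ?_ e
      exact Groth.Agent.QCohLib.app_map S.g i.le a
    obtain ⟨b, hb⟩ := (Groth.Agent.QCohLib.sections_exact_of_shortExact hS Z).2 _ hgZ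
    refine ⟨S.X₁.presheaf.germ Z x hxZ b, hm ▸ congrArg Ideal.radical ?_⟩
    ext r
    have hmb : Groth.Agent.QCohLib.stalkLinearMap S.f x (S.X₁.presheaf.germ Z x hxZ b) =
        S.X₂.presheaf.germ W x hxW a := by
      rw [Groth.Agent.QCohLib.stalkLinearMap_apply, Groth.Agent.QCohLib.stalkHom_germ, hb]
      exact TopCat.Presheaf.germ_res_apply S.X₂.presheaf i x hxZ a
    simp only [LinearMap.mem_ker, LinearMap.toSpanSingleton_apply, ← hmb, ← map_smul]
    exact (map_eq_zero_iff _ hf).symm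
  · right
    refine ⟨Groth.Agent.QCohLib.stalkLinearMap S.g x m, le_antisymm ?_ ?_⟩
    · refine IsLocalRing.le_maximalIdeal fun htop ↦ hn ?_
      rw [Ideal.radical_eq_top, Ideal.eq_top_iff_one] at htop
      exact (one_smul (X.presheaf.stalk x) _).symm.trans htop
    · rw [← hm]
      refine Ideal.radical_mono fun r hr ↦ ?_
      rw [LinearMap.mem_ker, LinearMap.toSpanSingleton_apply] at hr ⊢
      rw [← map_smul, hr, map_zero]

theorem mono_of_stalk_injective {G : X.Modules} (hF : F.IsQuasicoherent) (φ : F ⟶ G)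
    (h : ∀ x : X, Curv2.IsWeakAssPoint F x → Function.Injective (Groth.Agent.QCohLib.stalkHom φ x)) :
    Mono φ := by
  rw [Groth.Agent.QCohLib.mono_iff_app_injective]
  intro U
  rw [injective_iff_map_eq_zero]
  intro a ha
  refine eq_zero_of_germ_weakAss hF a fun η hη hw ↦ h η hw ?_
  rw [Groth.Agent.QCohLib.stalkHom_germ, ha, map_zero, map_zero]

end Groth.Agent.AssPoints
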