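import Groth.Prelude.Def_BlowUp2
import Groth.Agent.IdealComap.Basic
import Groth.Agent.MeroBasic.Reg

/-! Pullback of effective Cartier divisors avoiding weakly associated points. -/

namespace Groth.Agent.AssPoints

open AlgebraicGeometry CategoryTheory TopologicalSpace
open scoped nonZeroDivisors

universe u

theorem isEffCartierIdeal_comap {X Y : Scheme.{u}} (f : X ⟶ Y) (I : Y.IdealSheafData)
    (hD : BlowUp.IsEffCartierIdeal I)
    (h : ∀ x : X, Curv2.IsWeakAssPoint (Coh.structureModule X) x → f x ∉ I.support) :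
    BlowUp.IsEffCartierIdeal (I.comap f) := by
  intro x
  obtain ⟨V, hxV, g, -, hgI⟩ := hD (f x)
  obtain ⟨_, ⟨U, hU, rfl⟩, hxU, hUV⟩ :=
    X.isBasis_affineOpens.exists_subset_of_mem_open (show x ∈ f ⁻¹ᵁ V.1 from hxV) (f ⁻¹ᵁ V.1).isOpen
  replace hUV : U ≤ f ⁻¹ᵁ V.1 := hUV
  refine ⟨⟨U, hU⟩, hxU, f.appLE V.1 U hUV g, ?_, ?_⟩
  · change f.appLE V.1 U hUV g ∈ Γ(X, U)⁰
    rw [← Groth.Agent.MeroBasic.regSub_eq_nonZeroDivisors hU]
    intro y
    by_contra hy
    obtain ⟨x', hsp, hw, hnu⟩ := Groth.Agent.MeroBasic.exists_weakAss_of_not_mem_nonZeroDivisors y.1 _ hy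
    have hx'U := hsp.mem_open U.isOpen y.2
    have hx'V : f x' ∈ V.1 := hUV hx'U
    rw [TopCat.Presheaf.germ_stalkSpecializes_apply] at hnu
    refine h x' hw ((Scheme.IdealSheafData.mem_support_iff_of_mem hx'V).mpr ?_)
    rw [hgI, Scheme.zeroLocus_span, Scheme.zeroLocus_singleton]
    intro hmem
    refine hnu ?_
    have h1 : x' ∈ f ⁻¹ᵁ Y.basicOpen g := hmem
    rw [Scheme.preimage_basicOpen] at h1
    have h2 := (X.mem_basicOpen (f.app V.1 g) x' hx'V).mp h1
    rw [← TopCat.Presheaf.germ_res_apply X.presheaf (homOfLE hUV) x' hx'U] at h2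
    exact h2
  · rw [Groth.Agent.IdealComap.ideal_comap I f ⟨U, hU⟩ V hUV, hgI, Ideal.map_span, Set.image_singleton]

end Groth.Agent.AssPoints
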