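import Groth.Agent.AssPoints.Basic
import Groth.Agent.QCohLib.Criterion

/-! Weakly associated points of a pushforward along an affine morphism. -/

namespace Groth.Agent.AssPoints

open AlgebraicGeometry CategoryTheory TopologicalSpace
open MeroBasic (pr isUnit_germ_iff exists_germ_mul_eq fromSpec_mem primeIdealOf_fromSpec)

universe u

variable {X S : Scheme.{u}}

lemma germ_eq_zero_iff' {F : X.Modules} (hF : F.IsQuasicoherent) {U : X.Opens} (hU : IsAffineOpen U)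
    {y : X} (hy : y ∈ U) (a : Γ(F, U)) :
    F.presheaf.germ U y hy a = 0 ↔ ∃ r ∉ pr hU y hy, r • a = 0 := by
  rw [Groth.Agent.QCohLib.germ_eq_zero_iff hU y hy]
  simp only [Groth.Agent.QCohLib.mem_basicOpen_iff_notMem_primeIdealOf hU hy]

/-- A prime minimal over the annihilator of a section gives a weakly associated point. -/
theorem isWeakAssPoint_of_minimal_annihilator {F : X.Modules} (hF : F.IsQuasicoherent) {U : X.Opens}
    (hU : IsAffineOpen U) {x : X} (hx : x ∈ U) (a : Γ(F, U))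
    (h : ∀ r : Γ(X, U), r • a = 0 → r ∈ pr hU x hx)
    (hmin : ∀ Q : Ideal Γ(X, U), Q.IsPrime → Q ≤ pr hU x hx → (∀ r : Γ(X, U), r • a = 0 → r ∈ Q) →
      pr hU x hx ≤ Q) :
    Curv2.IsWeakAssPoint F x := by
  have hne : F.presheaf.germ U x hx a ≠ 0 := fun h0 ↦ by
    obtain ⟨r, hr, hr0⟩ := (germ_eq_zero_iff' hF hU hx a).mp h0
    exact hr (h r hr0)
  refine ⟨F.presheaf.germ U x hx a, le_antisymm ?_ ?_⟩
  · refine IsLocalRing.le_maximalIdeal fun htop ↦ ?_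
    rw [Ideal.radical_eq_top, Ideal.eq_top_iff_one] at htop
    exact hne ((one_smul (X.presheaf.stalk x) _).symm.trans htop)
  · rw [Ideal.radical_eq_sInf]
    refine le_sInf fun Q ⟨hQ, hQp⟩ ↦ ?_
    intro y hy
    obtain ⟨r, w, hw, hrw⟩ := exists_germ_mul_eq hU (hx := hx) y
    let Q' : Ideal Γ(X, U) := Q.comap (X.presheaf.germ U x hx).hom
    have hQ' : Q'.IsPrime := Ideal.IsPrime.comap _
    have hle : Q' ≤ pr hU x hx := by
      intro e he
      by_contra heq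
      exact hQp.ne_top (Q.eq_top_of_isUnit_mem he ((isUnit_germ_iff hU e).mpr heq))
    have hIQ : ∀ e : Γ(X, U), e • a = 0 → e ∈ Q' := fun e he ↦ hQ (by
      show X.presheaf.germ U x hx e • F.presheaf.germ U x hx a = 0
      rw [← Groth.Agent.QCohLib.germ_smul, he, map_zero])
    have hr : X.presheaf.germ U x hx r ∈ Q := hmin Q' hQ' hle hIQ (by
      by_contra hr
      have := (isUnit_germ_iff hU r).mpr hr
      rw [← hrw, IsUnit.mul_iff] at this
      exact hy this.1)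
    rw [← hrw] at hr
    exact (hQp.mem_or_mem hr).resolve_right fun h ↦ hQp.ne_top
      (Q.eq_top_of_isUnit_mem h ((isUnit_germ_iff hU w).mpr hw))

lemma pr_map (f : X ⟶ S) {V : S.Opens} (hV : IsAffineOpen V) (hU : IsAffineOpen (f ⁻¹ᵁ V)) {x : X}
    (hx : x ∈ f ⁻¹ᵁ V) : (pr hU x hx).comap (f.app V).hom = pr hV (f x) hx := by
  ext r
  rw [Ideal.mem_comap, ← not_iff_not]
  change f.app V r ∉ pr hU x hx ↔ _
  rw [← isUnit_germ_iff hU, ← isUnit_germ_iff hV, ← Scheme.Hom.germ_stalkMap_apply f V x hx r]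
  exact ⟨fun h ↦ (isUnit_map_iff (f.stalkMap x).hom _).mp h, fun h ↦ h.map (f.stalkMap x).hom⟩

theorem exists_isWeakAssPoint_of_pushforward (f : X ⟶ S) [IsAffineHom f] {F : X.Modules}
    (hF : F.IsQuasicoherent) {s : S}
    (hs : Curv2.IsWeakAssPoint ((Scheme.Modules.pushforward f).obj F) s) :
    ∃ x : X, f x = s ∧ Curv2.IsWeakAssPoint F x := by
  have hG : ((Scheme.Modules.pushforward f).obj F).IsQuasicoherent :=
    Groth.Agent.QCohLib.isQuasicoherent_pushforward f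
  obtain ⟨_, ⟨V, hV, rfl⟩, hsV, -⟩ :=
    S.isBasis_affineOpens.exists_subset_of_mem_open (Set.mem_univ s) isOpen_univ
  replace hsV : s ∈ V := hsV
  have hU : IsAffineOpen (f ⁻¹ᵁ V) := hV.preimage f
  obtain ⟨m, hm⟩ := hs
  obtain ⟨t, a, hst, hta⟩ := Groth.Agent.QCohLib.exists_smul_eq_germ hV s hsV m
  have ht : IsUnit (S.presheaf.germ V s hsV t) := (S.mem_basicOpen t s hsV).mp hst
  let a' : Γ(F, f ⁻¹ᵁ V) := a
  have hsmul : ∀ r : Γ(S, V), f.app V r • a' = (show Γ(F, f ⁻¹ᵁ V) from r • a) := fun r ↦ rfl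
  let p := pr hV s hsV
  let J : Ideal Γ(X, f ⁻¹ᵁ V) :=
    { carrier := {σ | ∃ v ∉ p, (f.app V v * σ) • a' = 0}
      add_mem' := by
        rintro σ τ ⟨v, hv, hσ⟩ ⟨w, hw, hτ⟩
        refine ⟨v * w, fun h ↦ ((hV.primeIdealOf ⟨s, hsV⟩).isPrime.mem_or_mem h).elim hv hw, ?_⟩
        rw [map_mul, mul_add, add_smul, mul_right_comm, mul_comm _ (f.app V w), mul_smul, hσ, smul_zero,
          zero_add, mul_assoc, mul_smul, hτ, smul_zero]
      zero_mem' := ⟨1, fun h ↦ (hV.primeIdealOf ⟨s, hsV⟩).isPrime.ne_top ((Ideal.eq_top_iff_one _).mpr h),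
        by rw [mul_zero, zero_smul]⟩
      smul_mem' := by
        rintro r σ ⟨v, hv, hσ⟩
        exact ⟨v, hv, by rw [smul_eq_mul, mul_left_comm, mul_smul, hσ, smul_zero]⟩ }
  have hzero : ∀ r : Γ(S, V), f.app V r ∈ J ↔
      S.presheaf.germ V s hsV r • m = 0 := by
    intro r
    have h1 : S.presheaf.germ V s hsV r • m = 0 ↔
        ((Scheme.Modules.pushforward f).obj F).presheaf.germ V s hsV (r • a) = 0 := by
      rw [Groth.Agent.QCohLib.germ_smul, ← hta, smul_smul, mul_comm, mul_smul, ht.smul_eq_zero]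
    rw [h1, germ_eq_zero_iff' hG hV hsV]
    refine exists_congr fun v ↦ and_congr_right fun _ ↦ ?_
    rw [← map_mul, hsmul, mul_smul]
    rfl
  have hdisj : Disjoint (J : Set Γ(X, f ⁻¹ᵁ V)) ((p.primeCompl.map (f.app V).hom : Submonoid _) : Set Γ(X, f ⁻¹ᵁ V)) := by
    rw [Set.disjoint_right]
    rintro _ ⟨r, hr, rfl⟩ hrJ
    have h1 := (hzero r).mp hrJ
    obtain ⟨v, hv⟩ := (isUnit_germ_iff hV (hx := hsV) r).mpr hr
    rw [← hv] at h1
    have hm0 : m = 0 := v.isUnit.smul_eq_zero.mp h1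
    apply (IsLocalRing.maximalIdeal.isMaximal (S.presheaf.stalk s)).ne_top
    rw [← hm, hm0, Ideal.radical_eq_top, LinearMap.ker_eq_top]
    ext; simp
  obtain ⟨Q₁, hQ₁, hJQ₁, hQ₁d⟩ := Ideal.exists_le_prime_disjoint J _ hdisj
  obtain ⟨Q, hQ, hQQ₁⟩ := Ideal.exists_minimalPrimes_le hJQ₁
  let qq : PrimeSpectrum Γ(X, f ⁻¹ᵁ V) := ⟨Q, hQ.isPrime⟩
  have hmem := fromSpec_mem hU qq
  have hpr : pr hU _ hmem = Q := congrArg PrimeSpectrum.asIdeal (primeIdealOf_fromSpec hU qq)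
  have hQp : Q.comap (f.app V).hom = p := by
    refine le_antisymm (fun r hr ↦ ?_) fun r hr ↦ ?_
    · by_contra h
      exact Set.disjoint_left.mp hQ₁d (hQQ₁ hr) ⟨r, h, rfl⟩
    · have : S.presheaf.germ V s hsV r ∈ IsLocalRing.maximalIdeal (S.presheaf.stalk s) := fun hu ↦
        (isUnit_germ_iff hV r).mp hu hr
      rw [← hm] at this
      obtain ⟨k, hk⟩ := this
      rw [LinearMap.mem_ker, LinearMap.toSpanSingleton_apply, ← map_pow, ← hzero, map_pow] at hk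
      exact Ideal.mem_comap.mpr (hQ.isPrime.mem_of_pow_mem k (hQ.le hk))
  refine ⟨hU.fromSpec qq, ?_, isWeakAssPoint_of_minimal_annihilator hF hU hmem a' (fun r hr ↦ ?_)
    fun Q' hQ' hle hann ↦ ?_⟩
  · have h1 := pr_map f hV hU hmem
    rw [hpr, hQp] at h1
    have h2 : hV.primeIdealOf ⟨s, hsV⟩ = hV.primeIdealOf ⟨f (hU.fromSpec qq), hmem⟩ := PrimeSpectrum.ext h1
    exact (hV.fromSpec_primeIdealOf ⟨f (hU.fromSpec qq), hmem⟩).symm.trans
      ((congrArg hV.fromSpec h2.symm).trans (hV.fromSpec_primeIdealOf ⟨s, hsV⟩))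
  · rw [hpr]
    exact hQ.le ⟨1, fun h ↦ (hV.primeIdealOf ⟨s, hsV⟩).isPrime.ne_top ((Ideal.eq_top_iff_one _).mpr h),
      by rw [map_one, one_mul, hr]⟩
  · rw [hpr] at hle ⊢
    refine hQ.2 ⟨hQ', fun σ hσ ↦ ?_⟩ hle
    obtain ⟨v, hv, hvσ⟩ := hσ
    refine (hQ'.mem_or_mem (hann _ hvσ)).resolve_left fun h ↦ hv ?_
    rw [← hQp]
    exact hle h

theorem isWeakAssPoint_pushforward [IsLocallyNoetherian X] (f : X ⟶ S) [IsAffineHom f] {F : X.Modules}
    (hF : F.IsQuasicoherent) {x : X} (hx : Curv2.IsWeakAssPoint F x) :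
    Curv2.IsWeakAssPoint ((Scheme.Modules.pushforward f).obj F) (f x) := by
  have hG : ((Scheme.Modules.pushforward f).obj F).IsQuasicoherent :=
    Groth.Agent.QCohLib.isQuasicoherent_pushforward f
  obtain ⟨_, ⟨V, hV, rfl⟩, hsV, -⟩ :=
    S.isBasis_affineOpens.exists_subset_of_mem_open (Set.mem_univ (f x)) isOpen_univ
  replace hsV : f x ∈ V := hsV
  have hU : IsAffineOpen (f ⁻¹ᵁ V) := hV.preimage f
  have hxU : x ∈ f ⁻¹ᵁ V := hsV
  have := IsLocallyNoetherian.component_noetherian (X := X) ⟨f ⁻¹ᵁ V, hU⟩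
  obtain ⟨m, hm⟩ := hx
  obtain ⟨t, a, hxt, hta⟩ := Groth.Agent.QCohLib.exists_smul_eq_germ hU x hxU m
  have ht : IsUnit (X.presheaf.germ (f ⁻¹ᵁ V) x hxU t) := (X.mem_basicOpen t x hxU).mp hxt
  let P := pr hU x hxU
  let I : Ideal Γ(X, f ⁻¹ᵁ V) :=
    { carrier := {σ | ∃ v ∉ P, (v * σ) • a = 0}
      add_mem' := by
        rintro σ τ ⟨v, hv, hσ⟩ ⟨w, hw, hτ⟩
        refine ⟨v * w, fun h ↦ ((hU.primeIdealOf ⟨x, hxU⟩).isPrime.mem_or_mem h).elim hv hw, ?_⟩
        rw [mul_add, add_smul, mul_right_comm, mul_comm _ w, mul_smul, hσ, smul_zero, zero_add,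
          mul_assoc, mul_smul, hτ, smul_zero]
      zero_mem' := ⟨1, fun h ↦ (hU.primeIdealOf ⟨x, hxU⟩).isPrime.ne_top ((Ideal.eq_top_iff_one _).mpr h),
        by rw [mul_zero, zero_smul]⟩
      smul_mem' := by
        rintro r σ ⟨v, hv, hσ⟩
        exact ⟨v, hv, by rw [smul_eq_mul, mul_left_comm, mul_smul, hσ, smul_zero]⟩ }
  have hPI : P ≤ I.radical := fun r hr ↦ by
    have : X.presheaf.germ (f ⁻¹ᵁ V) x hxU r ∈ IsLocalRing.maximalIdeal (X.presheaf.stalk x) := fun hu ↦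
      (isUnit_germ_iff hU r).mp hu hr
    rw [← hm] at this
    obtain ⟨k, hk⟩ := this
    have h0 : F.presheaf.germ (f ⁻¹ᵁ V) x hxU (r ^ k • a) = 0 := by
      rw [Groth.Agent.QCohLib.germ_smul, ← hta, smul_smul, mul_comm, mul_smul, map_pow,
        show X.presheaf.germ (f ⁻¹ᵁ V) x hxU r ^ k • m = 0 from hk, smul_zero]
    obtain ⟨v, hv, hv0⟩ := (germ_eq_zero_iff' hF hU hxU _).mp h0
    exact ⟨k, v, hv, by rw [mul_smul, hv0]⟩
  obtain ⟨N, hN⟩ := Ideal.exists_radical_pow_le_of_fg I (IsNoetherian.noetherian _)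
  obtain ⟨w, hwP, hw⟩ : ∃ w ∉ P, ∀ σ ∈ P ^ N, (w * σ) • a = 0 := by
    obtain ⟨T, hT⟩ := (IsNoetherian.noetherian (P ^ N) : (P ^ N).FG)
    have hTI : ∀ σ : T, ∃ v ∉ P, (v * σ.1) • a = 0 := fun σ ↦
      hN (Ideal.pow_right_mono hPI N (hT ▸ Submodule.subset_span σ.2))
    choose v hv hv0 using hTI
    refine ⟨∏ σ : T, v σ, fun h ↦ ?_, fun σ hσ ↦ ?_⟩
    · obtain ⟨σ, -, h'⟩ := (hU.primeIdealOf ⟨x, hxU⟩).isPrime.prod_mem_iff.mp h
      exact hv σ h'
    · suffices ∀ k ∈ Submodule.span Γ(X, f ⁻¹ᵁ V) (T : Set Γ(X, f ⁻¹ᵁ V)), ((∏ σ : T, v σ) * k) • a = 0 from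
        this σ (hT.symm ▸ hσ)
      intro k hk
      induction hk using Submodule.span_induction with
      | mem k hk =>
        classical
        rw [← Finset.prod_erase_mul _ _ (Finset.mem_univ (⟨k, hk⟩ : T)), mul_assoc, mul_smul,
          hv0 ⟨k, hk⟩, smul_zero]
      | zero => rw [mul_zero, zero_smul]
      | add _ _ _ _ h1 h2 => rw [mul_add, add_smul, h1, h2, add_zero]
      | smul r _ _ h => rw [smul_eq_mul, mul_left_comm, mul_smul, h, smul_zero]
  let b : Γ((Scheme.Modules.pushforward f).obj F, V) := (w • a : Γ(F, f ⁻¹ᵁ V))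
  refine ⟨((Scheme.Modules.pushforward f).obj F).presheaf.germ V (f x) hsV b, le_antisymm ?_ ?_⟩
  · refine IsLocalRing.le_maximalIdeal fun htop ↦ ?_
    rw [Ideal.radical_eq_top, Ideal.eq_top_iff_one] at htop
    have h0 := (one_smul (S.presheaf.stalk (f x)) _).symm.trans htop
    obtain ⟨v, hv, hv0⟩ := (germ_eq_zero_iff' hG hV hsV b).mp h0
    have hv' : f.app V v ∉ P := fun h ↦ hv ((pr_map f hV hU hxU).le h)
    have h1 : F.presheaf.germ (f ⁻¹ᵁ V) x hxU a = 0 := (germ_eq_zero_iff' hF hU hxU a).mpr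
      ⟨f.app V v * w, fun h ↦ ((hU.primeIdealOf ⟨x, hxU⟩).isPrime.mem_or_mem h).elim hv' hwP,
        by rw [mul_smul]; exact hv0⟩
    rw [← hta, ht.smul_eq_zero] at h1
    apply (IsLocalRing.maximalIdeal.isMaximal (X.presheaf.stalk x)).ne_top
    rw [← hm, h1, Ideal.radical_eq_top, LinearMap.ker_eq_top]
    ext; simp
  · intro y hy
    obtain ⟨r, e, he, hre⟩ := exists_germ_mul_eq hV (hx := hsV) y
    have hr : r ∈ pr hV (f x) hsV := by
      by_contra hr
      have := (isUnit_germ_iff hV r).mpr hr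
      rw [← hre, IsUnit.mul_iff] at this
      exact hy this.1
    have hrP : f.app V r ∈ P := (pr_map f hV hU hxU).ge hr
    refine ⟨N, ?_⟩
    rw [LinearMap.mem_ker, LinearMap.toSpanSingleton_apply]
    have h0 : r ^ N • b = 0 := by
      change f.app V (r ^ N) • (w • a : Γ(F, f ⁻¹ᵁ V)) = (0 : Γ(F, f ⁻¹ᵁ V))
      rw [smul_smul, mul_comm, map_pow]
      exact hw _ (Ideal.pow_mem_pow hrP N)
    have h1 := congrArg (((Scheme.Modules.pushforward f).obj F).presheaf.germ V (f x) hsV) h0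
    rw [Groth.Agent.QCohLib.germ_smul, map_zero, map_pow, ← hre, mul_pow, mul_comm, mul_smul] at h1
    exact (((isUnit_germ_iff hV e).mpr he).pow N).smul_eq_zero.mp h1

end Groth.Agent.AssPoints
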